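import Groth.Agent.Lib.FreeFib18.Main
import Groth.Agent.Lib.FPExt12.Basic
import Groth.Agent.Lib.TensorMod.InvCrit
import Groth.Agent.Lib.TensorMod.IdealMod
import Groth.Agent.Lib.Depth.More
import Groth.Agent.S17887
import Groth.Agent.S1682
import Groth.Prelude.Def_RegImm

set_option autoImplicit false
set_option linter.style.haveILetI false
set_option backward.isDefEq.respectTransparency false
set_option maxHeartbeats 1000000
universe u
open CategoryTheory CategoryTheory.Limits AlgebraicGeometry TopologicalSpace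

namespace Groth.Agent.BlowPush18

open Groth.Agent M1

variable {X Y S : Scheme.{u}}

theorem ideal_eq_top (J : X.IdealSheafData) (U : X.affineOpens) (h : ∀ x ∈ U.1, x ∉ J.support) :
    J.ideal U = ⊤ := by
  by_contra hne
  obtain ⟨p, hp, hle⟩ := Ideal.exists_le_maximal _ hne
  let P : PrimeSpectrum Γ(X, U.1) := ⟨p, hp.isPrime⟩
  have hx : U.2.fromSpec P ∈ X.zeroLocus (U := U.1) (J.ideal U : Set Γ(X, U.1)) ∩ U.1 := by
    rw [← U.2.fromSpec_image_zeroLocus]
    exact ⟨P, hle, rfl⟩
  have := (Scheme.IdealSheafData.coe_support_inter J U).ge hx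
  exact h _ hx.2 this.1

theorem bijective_stalk_idealModι (J : X.IdealSheafData) {x : X} (hx : x ∉ J.support) :
    Function.Bijective ((M1.stalkAb x).map (ClSub.idealModι J)) := by
  haveI : Mono (ClSub.idealModι J) := inferInstanceAs (Mono (kernel.ι (ClSub.toSubscheme J)))
  refine ⟨(AddCommGrpCat.mono_iff_injective _).1 inferInstance, fun a => ?_⟩
  obtain ⟨D, hxD, m, rfl⟩ := TopCat.Presheaf.exists_germ_eq (Coh.structureModule X).presheaf a
  obtain ⟨W, hW, hxW, hWD⟩ := exists_isAffineOpen_mem_and_subset (x := x) (U := D ⊓ J.support.compl) ⟨hxD, hx⟩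
  obtain ⟨b, hb⟩ : ∃ b, (ClSub.idealModι J).app W b = mres (Coh.structureModule X) (hWD.trans inf_le_left : W ≤ D) m :=
    (M2.range_idealIncl J ⟨W, hW⟩).ge (by
      rw [ideal_eq_top J ⟨W, hW⟩ fun y hy => (hWD hy).2]
      trivial)
  refine ⟨(ClSub.idealMod J).presheaf.germ W x hxW b, ?_⟩
  refine (TopCat.Presheaf.stalkFunctor_map_germ_apply W x hxW (ClSub.idealModι J).mapPresheaf b).trans ?_
  refine (congrArg ((Coh.structureModule X).presheaf.germ W x hxW) hb).trans ?_
  exact germ_mres _ _ hxW m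

theorem bijective_stalk_tensorMap {L L' M M' : X.Modules} (f : L ⟶ L') (g : M ⟶ M') {x : X}
    (hf : Function.Bijective ((M1.stalkAb x).map f)) (hg : Function.Bijective ((M1.stalkAb x).map g)) :
    Function.Bijective ((M1.stalkAb x).map (M2.tensorMap f g)) :=
  (M2.bijective_stalk_shf_map_iff _ x).2 (M2.bijective_stMap_tensorHom _ _ hf hg)

theorem isoOn_of_stalk {A B : X.Modules} (φ : A ⟶ B) (U : X.Opens)
    (h : ∀ y ∈ U, Function.Bijective ((M1.stalkAb y).map φ)) : FPExt12.IsoOn φ U := by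
  have hiso : IsIso ((Scheme.Modules.restrictFunctor U.ι).map φ) := by
    refine (M1.isIso_iff_stalk _).2 fun z => ?_
    let e := Scheme.Modules.restrictStalkNatIso U.ι z
    have hf : IsIso ((M1.stalkAb z.1).map φ) := (ConcreteCategory.isIso_iff_bijective _).2 (h z.1 z.2)
    exact (ConcreteCategory.isIso_iff_bijective _).1 ((NatIso.isIso_map_iff e φ).2 hf)
  exact (FPExt12.isoOn_of_isIso_restrict U.ι hiso).mono (Scheme.Opens.opensRange_ι U).ge

/-- The canonical section of the inverse of an ideal. -/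
theorem exists_section_inverse (J : X.IdealSheafData) (L : X.Modules)
    (e : CohB1.tensorMod L (ClSub.idealMod J) ≅ Coh.structureModule X) :
    ∃ s : Coh.structureModule X ⟶ L, FPExt12.IsoOn s J.support.compl := by
  refine ⟨e.inv ≫ M2.tensorMap (𝟙 L) (ClSub.idealModι J) ≫ (M2.tensorRUnit L).hom,
    isoOn_of_stalk _ _ fun x hx => ?_⟩
  have hid : Function.Bijective ((M1.stalkAb x).map (𝟙 L)) :=
    (ConcreteCategory.isIso_iff_bijective _).1 inferInstance
  have h1 := bijective_stalk_tensorMap (𝟙 L) (ClSub.idealModι J) hid (bijective_stalk_idealModι J hx)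
  rw [Functor.map_comp, Functor.map_comp]
  haveI := (ConcreteCategory.isIso_iff_bijective _).2 h1
  exact (ConcreteCategory.isIso_iff_bijective _).1 inferInstance

theorem dominant_of_rb [IsLocallyNoetherian Y] {U : Y.Opens} (h : ParaF27.RB U) :
    IsSchemeTheoreticallyDominant U.ι := by
  refine ⟨Scheme.IdealSheafData.ext (funext fun W => ?_)⟩
  rw [Scheme.Hom.ker_apply, Scheme.IdealSheafData.ideal_bot]
  show RingHom.ker (U.ι.app W.1).hom = ⊥
  refine (RingHom.injective_iff_ker_eq_bot _).1 ?_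
  rw [Scheme.Opens.ι_app]
  exact (ParaF27.map_bijective_congr h
    (by rw [Scheme.Hom.image_preimage_eq_opensRange_inf, Scheme.Opens.opensRange_ι, inf_comm]) _).1

theorem injective_mres_of_invertible [IsLocallyNoetherian X] {V : X.Opens} [IsSchemeTheoreticallyDominant V.ι]
    {L : X.Modules} (hL : PicF.IsInvertible L) {W Z : X.Opens} (hle : Z ≤ W) (hZ : W ⊓ V ≤ Z) :
    Function.Injective (mres L hle) := by
  intro s t hst
  choose D g hxD hg using ProjUP.exists_isGen_of_invertible hL
  refine modules_eq_of_locally_eq L W (fun x => W ⊓ D x) (fun _ => inf_le_left)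
    (fun y hy => Opens.mem_iSup.2 ⟨y, hy, hxD y⟩) s t fun x => ?_
  let W' := W ⊓ D x
  show mres L (inf_le_left : W' ≤ W) s = mres L (inf_le_left : W' ≤ W) t
  obtain ⟨a, ha⟩ := (hg x W' inf_le_right).2 (mres L (inf_le_left : W' ≤ W) s)
  obtain ⟨b, hb⟩ := (hg x W' inf_le_right).2 (mres L (inf_le_left : W' ≤ W) t)
  dsimp only at ha hb
  rw [← ha, ← hb]
  suffices a = b by rw [this]
  have hW'' : V.ι ''ᵁ (V.ι ⁻¹ᵁ W') ≤ W' := V.ι.image_preimage_le W'
  have hsub : V.ι ''ᵁ (V.ι ⁻¹ᵁ W') ≤ Z := by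
    rw [Scheme.Hom.image_preimage_eq_opensRange_inf, Scheme.Opens.opensRange_ι]
    exact (le_inf (inf_le_right.trans inf_le_left) inf_le_left).trans hZ
  refine V.ι.app_injective W' ?_
  rw [Scheme.Opens.ι_app]
  show ores hW'' a = ores hW'' b
  refine (hg x _ (hW''.trans inf_le_right)).1 ?_
  show ores hW'' a • mres L _ (g x) = ores hW'' b • mres L _ (g x)
  have key : ∀ c : Γ(X, W'), ores hW'' c • mres L (hW''.trans inf_le_right) (g x) =
      mres L hW'' (c • mres L (inf_le_right : W' ≤ D x) (g x)) := fun c => by rw [mres_smul, mres_mres]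
  rw [key, key, ha, hb, mres_mres, mres_mres, ← mres_mres L hle hsub, ← mres_mres L hle hsub, hst]

theorem two_le_depth_of_regularImmersion [IsLocallyNoetherian Y] (i : S ⟶ Y) [IsClosedImmersion i] (d : ℕ)
    (hd : 2 ≤ d) (hi : RegImm.IsRegularImmersionOfCodim .regular d i) (z : S) :
    (2 : ℕ∞) ≤ LocCoh.depth (Y.presheaf.stalk (i z)) (Y.presheaf.stalk (i z)) := by
  obtain ⟨U, hzU, -, rs, hlen, hseq, hker⟩ := hi.2 z
  letI := TopCat.Presheaf.algebra_section_stalk Y.presheaf (⟨i z, hzU⟩ : U.1)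
  haveI := U.2.isLocalization_stalk ⟨i z, hzU⟩
  have hw := (hseq : RingTheory.Sequence.IsRegular Γ(Y, U.1) rs).toIsWeaklyRegular.of_isLocalization
    (S := Y.presheaf.stalk (i z)) (U.2.primeIdealOf ⟨i z, hzU⟩).asIdeal.primeCompl
  refine le_trans ?_ (DepthLib.length_le_idealDepth (I := IsLocalRing.maximalIdeal (Y.presheaf.stalk (i z))) hw ?_)
  · rw [List.length_map, hlen]
    exact_mod_cast hd
  · intro r hr
    obtain ⟨r₀, hr₀, rfl⟩ := List.mem_map.1 hr
    rw [IsLocalRing.mem_maximalIdeal, mem_nonunits_iff]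
    intro hu
    have hmem : r₀ ∈ RingHom.ker (i.app U.1).hom := by
      rw [hker]
      exact Ideal.subset_span hr₀
    have hu' := hu.map (i.stalkMap z).hom
    have h0 : (i.stalkMap z).hom (Y.presheaf.germ U.1 (i z) hzU r₀) = 0 := by
      refine (Scheme.Hom.germ_stalkMap_apply i U.1 z hzU r₀).trans ?_
      rw [show (i.app U.1) r₀ = 0 from hmem, map_zero]
    exact not_isUnit_zero (h0 ▸ hu')

theorem pushforward_inverseOfExceptional (k : Type u) [Field k]
    [Y.Over (Spec (CommRingCat.of k))] [Smooth (Y ↘ Spec (CommRingCat.of k))]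
    [QuasiCompact (Y ↘ Spec (CommRingCat.of k))]
    (i : S ⟶ Y) [IsClosedImmersion i] (d : ℕ) (hd : 2 ≤ d) (hi : RegImm.IsRegularImmersionOfCodim .regular d i)
    (σ : X ⟶ Y) [IsLocallyNoetherian X] (hσ : BlowUp.IsBlowUp σ i.ker)
    (L : X.Modules) (hL : ClSub.IsInverseOf L (ClSub.idealMod (BlowUp.exceptional σ i.ker))) :
    Nonempty ((Scheme.Modules.pushforward σ).obj L ≅ Coh.structureModule Y) := by
  haveI : CompactSpace Y := QuasiCompact.compactSpace_of_compactSpace (Y ↘ Spec (CommRingCat.of k))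
  haveI : IsLocallyNoetherian Y := LocallyOfFiniteType.isLocallyNoetherian (Y ↘ Spec (CommRingCat.of k))
  haveI : IsNoetherian Y := {}
  obtain ⟨e⟩ := hL
  have hLi := M2.isInvertible_of_tensor_iso_unit L _ e
  let U : Y.Opens := i.ker.support.compl
  have hsupp : (i.ker.support : Set Y) = Set.range i := by
    rw [Scheme.Hom.support_ker, (i.isClosedEmbedding.isClosed_range).closure_eq]
  have hrb : ParaF27.RB U := FreeFib18.rb_of_depth U fun y hy => by
    obtain ⟨z, rfl⟩ : y ∈ Set.range i := by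
      rw [← hsupp]
      exact not_not.1 hy
    exact two_le_depth_of_regularImmersion i d hd hi z
  haveI := dominant_of_rb hrb
  let V : X.Opens := σ ⁻¹ᵁ U
  haveI : IsSchemeTheoreticallyDominant V.ι := S17887.result U i.ker (disjoint_compl_right) σ hσ
  have hV : V ≤ (BlowUp.exceptional σ i.ker).support.compl := fun x hx h => by
    rw [Scheme.IdealSheafData.support_comap] at h
    exact hx h
  obtain ⟨s, hs⟩ := exists_section_inverse (BlowUp.exceptional σ i.ker) L e
  replace hs := hs.mono hV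
  haveI := S1682.result i.ker σ hσ
  let Q := (Scheme.Modules.pushforward σ).obj L
  let t : Coh.structureModule Y ⟶ Q := ClSub.unitToPush σ ≫ (Scheme.Modules.pushforward σ).map s
  have happ : ∀ W : Y.Opens, W ≤ U → Function.Bijective (σ.app W) := fun W hW => by
    have e1 : W = U.ι ''ᵁ (U.ι ⁻¹ᵁ W) := by
      rw [Scheme.Hom.image_preimage_eq_opensRange_inf, Scheme.Opens.opensRange_ι, inf_eq_right.2 hW]
    rw [e1]
    have h2 := morphismRestrict_app σ U (U.ι ⁻¹ᵁ W)
    have h3 : IsIso ((σ ∣_ U).app (U.ι ⁻¹ᵁ W)) := inferInstance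
    rw [h2] at h3
    exact (ConcreteCategory.isIso_iff_bijective _).1
      (@IsIso.of_isIso_comp_right _ _ _ _ _ _ _ inferInstance h3)
  have ht : FPExt12.IsoOn t U := fun W hW => by
    have e2 : ((t.app W) : Γ(Coh.structureModule Y, W) → Γ(Q, W)) = s.app (σ ⁻¹ᵁ W) ∘ σ.app W := funext fun _ => rfl
    rw [e2]
    exact (hs _ (σ.preimage_mono hW)).comp (happ W hW)
  let adj := Scheme.Modules.restrictAdjunction U.ι
  haveI : IsIso (adj.unit.app (Coh.structureModule Y)) :=
    ParaF27.isIso_unit_of_resBij U.ι (by rw [Scheme.Opens.opensRange_ι]; exact hrb)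
  haveI : Mono (adj.unit.app Q) := by
    refine (Scheme.Modules.toPresheaf Y).mono_of_mono_map ?_
    refine @NatTrans.mono_of_mono_app _ _ _ _ _ _ _ fun W => ?_
    obtain ⟨W⟩ := W
    refine (AddCommGrpCat.mono_iff_injective _).2 ?_
    show Function.Injective ((adj.unit.app Q).app W)
    rw [Scheme.Modules.restrictAdjunction_unit_app_app]
    refine injective_mres_of_invertible (V := V) hLi (σ.preimage_mono (U.ι.image_preimage_le W)) ?_
    intro x hx
    exact ⟨⟨σ x, hx.2⟩, hx.1, rfl⟩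
  haveI : IsIso ((Scheme.Modules.restrictFunctor U.ι).map t) :=
    ht.isIso_restrict U.ι (Scheme.Opens.opensRange_ι U).le
  haveI : IsIso ((Scheme.Modules.restrictFunctor U.ι ⋙ Scheme.Modules.pushforward U.ι).map t) :=
    Functor.map_isIso (Scheme.Modules.pushforward U.ι) _
  haveI h1 : IsIso (t ≫ adj.unit.app Q) := by
    rw [show t ≫ adj.unit.app Q = _ from adj.unit.naturality t]
    infer_instance
  haveI : IsSplitEpi (adj.unit.app Q) := IsSplitEpi.mk' ⟨inv (t ≫ adj.unit.app Q) ≫ t, by simp⟩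
  haveI : IsIso (adj.unit.app Q) := isIso_of_mono_of_isSplitEpi _
  haveI : IsIso t := IsIso.of_isIso_comp_right t (adj.unit.app Q)
  exact ⟨(asIso t).symm⟩

end Groth.Agent.BlowPush18
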